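import Mathlib.Tactic.IntervalCases
import Cfsg.Agent.Lib.Lie.Sz.Eight.Data

/-! Checks on the tables of signs and successors. -/

set_option autoImplicit false
set_option maxRecDepth 100000

open Cfsg.Agent.Spor.Cos

namespace Cfsg.Agent.Lie.SzEight

/-- The sign of a lift at a pair. -/
noncomputable def sg (s p q : ℕ) : ℕ := (sgT.at (65 * p + q) >>> (2 * s)) % 4

/-- A weighted successor. -/
noncomputable def ent (p q j : ℕ) : ℕ := (edT.at (65 * p + q) >>> (9 * j)) % 512

/-- A predecessor and a rank. -/
noncomputable def par4 (p q : ℕ) : ℕ := paT.at (65 * p + q)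

/-- The signs respect the successors of one pair under one generator. -/
noncomputable def chkPair (s p q : ℕ) : Bool :=
  (List.range 7).all fun j => force (ent p q j) fun e => force (e % 128) fun r =>
    !Nat.blt r 65 || force (actA.im r s + 128 * Nat.xor (Nat.xor (e / 128) (sg s p q)) (sg s q r)) fun t =>
      force (actA.im p s) fun p' => force (actA.im q s) fun q' =>
        (List.range 7).any fun j' => Nat.beq (ent p' q' j') t

theorem chkPairs_zero : ∀ p < 65, (List.range 65).all (chkPair 0 p) = true := by decide +kernel

theorem chkPairs_one : ∀ p < 65, (List.range 65).all (chkPair 1 p) = true := by decide +kernel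

theorem chkPairs_two : ∀ p < 65, (List.range 65).all (chkPair 2 p) = true := by decide +kernel

theorem chkPairs_three : ∀ p < 65, (List.range 65).all (chkPair 3 p) = true := by decide +kernel

theorem chkPairs {s p q : ℕ} (hs : s < 4) (hp : p < 65) (hq : q < 65) : chkPair s p q = true := by
  have h : (List.range 65).all (chkPair s p) = true := by
    interval_cases s
    exacts [chkPairs_zero p hp, chkPairs_one p hp, chkPairs_two p hp, chkPairs_three p hp]
  exact List.all_eq_true.1 h q (List.mem_range.2 hq)

/-- No signs and no successors on the diagonal. -/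
noncomputable def chkDiag (p : ℕ) : Bool :=
  ((List.range 4).all fun s => Nat.beq (sg s p p) 0) && (List.range 7).all fun j => Nat.beq (ent p p j % 128) 127

theorem chkDiags : ∀ p < 65, chkDiag p = true := by decide +kernel

/-- The successors of a pair are distinct. -/
noncomputable def chkDistinct (p q : ℕ) : Bool :=
  Nat.beq p q || (List.range 7).all fun j => (List.range j).all fun j' => !Nat.beq (ent p q j % 128) (ent p q j' % 128)

theorem chkDistincts : ∀ p < 65, (List.range 65).all (chkDistinct p) = true := by decide +kernel

/-- The predecessors. -/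
noncomputable def chkPar (q r : ℕ) : Bool :=
  Nat.beq q r || (Nat.beq q 64 && Nat.beq r 0) || force (par4 q r) fun e =>
    Nat.blt (e % 128) 65 && Nat.blt (par4 (e % 128) q / 128) (e / 128) &&
      (List.range 7).any fun j => Nat.beq (ent (e % 128) q j % 128) r

theorem chkPars : ∀ q < 65, (List.range 65).all (chkPar q) = true := by decide +kernel

/-- Follow a word from a pair, adding up the signs. -/
noncomputable def trk (x : ℕ × ℕ) : List ℕ → ℕ × ℕ × ℕ
  | [] => (x.1, x.2, 0)
  | s :: w => (actA.im (trk x w).1 s, actA.im (trk x w).2.1 s, Nat.xor (trk x w).2.2 (sg s (trk x w).1 (trk x w).2.1))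

end Cfsg.Agent.Lie.SzEight
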