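import Cfsg.Agent.Lib.Lie.Sz.Eight.Data
import Cfsg.Agent.Lib.Lie.Sz.Group
import Cfsg.Agent.Lib.Fus.FieldEight

/-! The smallest Suzuki group on the 65 points of the ovoid through four involutions. -/

set_option autoImplicit false
set_option maxRecDepth 100000
set_option linter.style.haveILetI false

open Cfsg Cfsg.Agent.Suz Cfsg.Agent.Spor.Cos
open Cfsg.Agent.Fus (F8)

namespace Cfsg.Agent.Lie.SzEight

theorem hS : SzField F8 1 := ⟨le_rfl, rfl⟩

/-- The group. -/
abbrev G0 : Type := ↥(Cfsg.Sz F8 1)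

/-- The parameters of a point. -/
def ptO (k : ℕ) : Option (F8 × F8) := if k = 64 then none else some (F8.ofNum (k % 8), F8.ofNum (k / 8))

/-- The number of a point. -/
def num : Option (F8 × F8) → ℕ
  | none => 64
  | some p => p.1.toNat + 8 * p.2.toNat

theorem num_ptO : ∀ k < 65, num (ptO k) = k := by decide +kernel

theorem ptO_num : ∀ o : Option (F8 × F8), ptO (num o) = o ∧ num o < 65 := by decide +kernel

/-- The image of a point. -/
noncomputable def img (g : G0) (o : Option (F8 × F8)) : Option (F8 × F8) := (exists_pt_smul hS g o).choose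

theorem img_spec (g : G0) (o : Option (F8 × F8)) : g • pt 1 o = pt 1 (img g o) := (exists_pt_smul hS g o).choose_spec

theorem img_eq {g : G0} {o o' : Option (F8 × F8)} (h : g • pt 1 o = pt 1 o') : img g o = o' :=
  pt_injective ((img_spec g o).symm.trans h)

theorem img_mul (g h : G0) (o : Option (F8 × F8)) : img (g * h) o = img g (img h o) :=
  img_eq (by rw [mul_smul, img_spec h, img_spec g])

theorem img_one (o : Option (F8 × F8)) : img 1 o = o := img_eq (one_smul _ _)

/-- The action on the numbers. -/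
noncomputable def piA : G0 →* Equiv.Perm (Fin actA.N) where
  toFun g :=
    { toFun := fun p => ⟨num (img g (ptO p.1)), (ptO_num _).2⟩
      invFun := fun p => ⟨num (img g⁻¹ (ptO p.1)), (ptO_num _).2⟩
      left_inv := fun p => Fin.ext (by
        show num (img g⁻¹ (ptO (num (img g (ptO p.1))))) = p.1
        rw [(ptO_num _).1, ← img_mul, inv_mul_cancel, img_one]; exact num_ptO p.1 p.2)
      right_inv := fun p => Fin.ext (by
        show num (img g (ptO (num (img g⁻¹ (ptO p.1))))) = p.1
        rw [(ptO_num _).1, ← img_mul, mul_inv_cancel, img_one]; exact num_ptO p.1 p.2) }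
  map_one' := Equiv.ext fun p => Fin.ext (by
    show num (img 1 (ptO p.1)) = p.1
    rw [img_one]; exact num_ptO p.1 p.2)
  map_mul' g h := Equiv.ext fun p => Fin.ext (by
    show num (img (g * h) (ptO p.1)) = num (img g (ptO (num (img h (ptO p.1)))))
    rw [(ptO_num _).1, img_mul])

theorem piA_val (g : G0) (p : Fin actA.N) : (piA g p : ℕ) = num (img g (ptO p.1)) := rfl

theorem piA_fix {g : G0} {p : Fin actA.N} (h : piA g p = p) : g • pt 1 (ptO p.1) = pt 1 (ptO p.1) := by
  have e := congrArg (fun q : Fin actA.N => ptO q.1) h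
  simp only [piA_val, (ptO_num _).1] at e
  rw [img_spec, e]

/-- The second coordinates of the three lower involutions. -/
def bVal : ℕ → F8
  | 1 => F8.e1
  | 2 => F8.e2
  | _ => F8.e4

/-- The generators. -/
noncomputable def gT (s : ℕ) : G0 := if s = 0 then wS hS else if s < 4 then uS hS 0 (bVal s) else 1

/-- The formula for the images. -/
def imF (s : ℕ) : Option (F8 × F8) → Option (F8 × F8)
  | none => if s = 0 then some (0, 0) else none
  | some (x, y) =>
    if s = 0 then if x = 0 ∧ y = 0 then none else some (y / fo 1 x y, x / fo 1 x y)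
    else some (x + 0, y + th 1 (0 : F8) * x + bVal s)

theorem img_gT {s : ℕ} (hs : s < 4) (o : Option (F8 × F8)) : img (gT s) o = imF s o := by
  refine img_eq ?_
  by_cases h0 : s = 0
  · subst h0
    rcases o with _ | ⟨x, y⟩
    · rw [gT, if_pos rfl, imF, if_pos rfl]; exact wS_inf hS
    · rw [gT, if_pos rfl, imF, if_pos rfl]
      by_cases hxy : x = 0 ∧ y = 0
      · rw [if_pos hxy, hxy.1, hxy.2]; exact wS_zero hS
      · rw [if_neg hxy]
        exact wEl_pt hS fun h => hxy (fo_eq_zero hS h)
  · rcases o with _ | ⟨x, y⟩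
    · rw [gT, if_neg h0, if_pos hs, imF, if_neg h0]; exact uS_inf hS _ _
    · rw [gT, if_neg h0, if_pos hs, imF, if_neg h0]; exact uS_pt hS _ _ _ _

theorem act_inv : ∀ p < actA.N, actA.chkInv p = true := by decide +kernel

theorem act_table : ∀ s < 4, ∀ p < 65, actA.im p s = num (imF s (ptO p)) := by decide +kernel

theorem homA : actA.Hom gT piA := by
  refine ⟨act_inv, fun s => Equiv.ext fun p => Fin.ext ?_⟩
  by_cases hs : s < 4
  · rw [actA.perm_apply act_inv hs, piA_val, img_gT hs, act_table s hs p.1 p.2]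
  · rw [gT, if_neg (by omega), if_neg hs, map_one, actA.perm_out s (not_lt.1 hs)]

theorem base_pts : ptO 64 = none ∧ ptO 0 = some ((0 : F8), 0) ∧ ptO 8 = some ((0 : F8), 1) := by decide +kernel

theorem det (y : G0) (h : ∀ q : Fin actA.N, (q : ℕ) ∈ [64, 0, 8] → piA y q = q) : y = 1 := by
  have hfix : ∀ k ∈ [64, 0, 8], y • pt 1 (ptO k) = pt 1 (ptO k) := fun k hk => by
    have hk' : k < actA.N := (show ∀ k ∈ [64, 0, 8], k < 65 by decide) k hk
    exact piA_fix (p := ⟨k, hk'⟩) (h _ hk)
  obtain ⟨e0, e1, e2⟩ := base_pts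
  have f0 := hfix 64 (List.mem_cons_self ..)
  have f1 := hfix 0 (List.mem_cons_of_mem _ (List.mem_cons_self ..))
  have f2 := hfix 8 (List.mem_cons_of_mem _ (List.mem_cons_of_mem _ (List.mem_cons_self ..)))
  rw [e0] at f0; rw [e1] at f1; rw [e2] at f2
  exact eq_one_of_fix_three hS (fun hxy => one_ne_zero hxy.2) f0 f1 f2

/-- A word gives a named element. -/
noncomputable def chkImg (w : List ℕ) (f : Option (F8 × F8) → Option (F8 × F8)) : Bool :=
  w.all (fun s => Nat.blt s 4) && [64, 0, 8].all fun b => Nat.beq (actA.go w b) (num (f (ptO b)))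

theorem eq_word {g : G0} {w : List ℕ} {f : Option (F8 × F8) → Option (F8 × F8)}
    (hf : ∀ o, g • pt 1 o = pt 1 (f o)) (h : chkImg w f = true) :
    g = Cfsg.Agent.Spor.Cos.ev gT w := by
  simp only [chkImg, Bool.and_eq_true, List.all_eq_true] at h
  refine (inv_mul_eq_one.1 (det ((Cfsg.Agent.Spor.Cos.ev gT w)⁻¹ * g) fun q hq => ?_)).symm
  have e : piA g q = piA (Cfsg.Agent.Spor.Cos.ev gT w) q := Fin.ext (by
    rw [homA.apply_ev _ (fun s hs => Nat.le_of_ble_eq_true (h.1 s hs)), piA_val, img_eq (hf _)]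
    exact (Nat.eq_of_beq_eq_true (h.2 q.1 hq)).symm)
  rw [map_mul, map_inv, Equiv.Perm.mul_apply, e, Equiv.Perm.inv_def, Equiv.symm_apply_apply]

/-- The images under a lower unipotent element. -/
def uF (a : F8) : Option (F8 × F8) → Option (F8 × F8)
  | none => none
  | some (x, y) => some (x + a, y + th 1 a * x + 0)

theorem uF_spec (a : F8) (o : Option (F8 × F8)) : uS hS a 0 • pt 1 o = pt 1 (uF a o) := by
  rcases o with _ | ⟨x, y⟩
  · exact uS_inf hS _ _
  · exact uS_pt hS _ _ _ _

/-- A generator of the units. -/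
def zU : F8ˣ where
  val := F8.e2
  inv := F8.e5
  val_inv := by decide +kernel
  inv_val := by decide +kernel

/-- The images under a torus element. -/
def tF : Option (F8 × F8) → Option (F8 × F8)
  | none => none
  | some (x, y) => some (par 1 (F8.e2 : F8) * x, th 1 (F8.e2 : F8) * y)

theorem tF_spec (o : Option (F8 × F8)) : hTor hS zU • pt 1 o = pt 1 (tF o) := by
  rcases o with _ | ⟨x, y⟩
  · exact hTor_inf hS _
  · exact hTor_pt hS _ _ _

theorem units_eq : ∀ z : F8, z ≠ 0 → ∃ k : Fin 7, z = (F8.e2 : F8) ^ (k : ℕ) := by decide +kernel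

theorem sums : ∀ a : F8, ∃ i j k : Bool,
    a = (if i then F8.e1 else 0) + (if j then F8.e2 else 0) + (if k then F8.e4 else 0) := by decide +kernel

theorem gen : Subgroup.closure {x | ∃ s < 4, gT s = x} = ⊤ := by
  set K := Subgroup.closure {x : G0 | ∃ s < 4, gT s = x} with hK
  have hg : ∀ s < 4, gT s ∈ K := fun s hs => Subgroup.subset_closure ⟨s, hs, rfl⟩
  have hw : ∀ w : List ℕ, w.all (fun s => Nat.blt s 4) = true → Cfsg.Agent.Spor.Cos.ev gT w ∈ K := fun w h =>
    ev_mem w fun s hs => hg s (Nat.le_of_ble_eq_true (List.all_eq_true.1 h s hs))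
  have h0 : ∀ b : F8, uS hS 0 b ∈ K := by
    have add : ∀ b b', uS hS 0 b ∈ K → uS hS 0 b' ∈ K → uS hS 0 (b + b') ∈ K := fun b b' h h' => by
      have e := uS_mul hS 0 b 0 b'
      rw [th_zero, zero_mul, add_zero, add_zero] at e
      exact e ▸ mul_mem h h'
    have hz : uS hS (0 : F8) 0 ∈ K := by rw [uS_zero]; exact one_mem _
    have base : ∀ s, 1 ≤ s → s < 4 → uS hS 0 (bVal s) ∈ K := fun s h1 h2 => by
      have := hg s h2
      rwa [gT, if_neg (by omega), if_pos h2] at this
    intro b
    obtain ⟨i, j, k, rfl⟩ := sums b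
    refine add _ _ (add _ _ ?_ ?_) ?_
    · cases i
      · exact hz
      · exact base 1 (by norm_num) (by norm_num)
    · cases j
      · exact hz
      · exact base 2 (by norm_num) (by norm_num)
    · cases k
      · exact hz
      · exact base 3 (by norm_num) (by norm_num)
  have ha : ∀ a : F8, ∃ b, uS hS a b ∈ K := by
    have add : ∀ a a', (∃ b, uS hS a b ∈ K) → (∃ b, uS hS a' b ∈ K) → ∃ b, uS hS (a + a') b ∈ K := by
      rintro a a' ⟨b, hb⟩ ⟨b', hb'⟩
      exact ⟨_, uS_mul hS a b a' b' ▸ mul_mem hb hb'⟩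
    have hz : ∃ b, uS hS (0 : F8) b ∈ K := ⟨0, h0 0⟩
    have base : ∀ k (a : F8), chkImg (uWords.getD k []) (uF a) = true → ∃ b, uS hS a b ∈ K := fun k a h => by
      refine ⟨0, ?_⟩
      rw [eq_word (uF_spec a) h]
      simp only [chkImg, Bool.and_eq_true] at h
      exact hw _ h.1
    intro a
    obtain ⟨i, j, k, rfl⟩ := sums a
    refine add _ _ (add _ _ ?_ ?_) ?_
    · cases i
      · exact hz
      · exact base 0 _ (by decide +kernel)
    · cases j
      · exact hz
      · exact base 1 _ (by decide +kernel)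
    · cases k
      · exact hz
      · exact base 2 _ (by decide +kernel)
  have hu : ∀ a b : F8, uS hS a b ∈ K := by
    intro a b
    obtain ⟨b', hb'⟩ := ha a
    have e := uS_mul hS a b' 0 (b - b')
    rw [add_zero, mul_zero, add_zero, add_sub_cancel] at e
    exact e ▸ mul_mem hb' (h0 _)
  have hz : hTor hS zU ∈ K := by
    rw [eq_word tF_spec (w := tWord) (by decide +kernel)]
    exact hw _ (by decide +kernel)
  have ht : ∀ z : F8ˣ, hTor hS z ∈ K := by
    intro z
    obtain ⟨k, hk⟩ := units_eq (z : F8) z.ne_zero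
    have e : z = zU ^ (k : ℕ) := Units.ext (by rw [Units.val_pow_eq_pow_val]; exact hk)
    show torHom hS z ∈ K
    rw [e, map_pow]
    exact pow_mem hz _
  have hb : ∀ g ∈ borel 1 F8, g ∈ K := fun g hg' => by
    obtain ⟨a, b, z, rfl⟩ := borel_eq hS hg'
    exact mul_mem (hu a b) (ht z)
  rw [eq_top_iff]
  intro g _
  by_cases hgb : g ∈ borel 1 F8
  · exact hb g hgb
  · obtain ⟨a, b, k, hk, rfl⟩ := big_cell hS hgb
    have hw0 := hg 0 (by norm_num)
    rw [gT, if_pos rfl] at hw0
    exact mul_mem (mul_mem (hu a b) hw0) (hb k hk)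

theorem card_G0 : Nat.card G0 = 29120 := (card_Sz hS).trans (by norm_num)

end Cfsg.Agent.Lie.SzEight
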