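import Cfsg.Prelude.Def_KGroupFacts
import Cfsg.Agent.Lib.Lie.Sz.Eight.Tables
import Cfsg.Agent.Lib.Lie.Sz.Eight.Two

/-!
A central extension of the smallest Suzuki group by a four-group: permutations of four sheets over the pairs of
points of the ovoid.
-/

set_option autoImplicit false
set_option maxRecDepth 100000
set_option linter.style.haveILetI false

open Cfsg Cfsg.Agent.Spor.Cos
open scoped commutatorElement

namespace Cfsg.Agent.Lie.SzEight

/-- The points. -/
abbrev Pt : Type := Fin actA.N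

/-- The four sheets. -/
abbrev V4 : Type := ZMod 2 × ZMod 2

/-- The sheets over the pairs. -/
abbrev Xh : Type := (Pt × Pt) × V4

/-- A sheet from its number. -/
def vv (n : ℕ) : V4 := (((n % 2 : ℕ) : ZMod 2), ((n / 2 : ℕ) : ZMod 2))

theorem vv_xor : ∀ a < 4, ∀ b < 4, vv (Nat.xor a b) = vv a + vv b ∧ Nat.xor a b < 4 := by decide

theorem add_self4 : ∀ v : V4, v + v = 0 := by decide

/-- The lift of an element by a function on pairs. -/
noncomputable def lift (g : G0) (σ : Pt → Pt → V4) : Equiv.Perm Xh where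
  toFun x := ((piA g x.1.1, piA g x.1.2), x.2 + σ x.1.1 x.1.2)
  invFun x := ((piA g⁻¹ x.1.1, piA g⁻¹ x.1.2), x.2 + σ (piA g⁻¹ x.1.1) (piA g⁻¹ x.1.2))
  left_inv x := by
    have e : ∀ p, piA g⁻¹ (piA g p) = p := fun p => by
      rw [← Equiv.Perm.mul_apply, ← map_mul, inv_mul_cancel, map_one, Equiv.Perm.one_apply]
    simp only [e, add_assoc, add_self4, add_zero]
  right_inv x := by
    have e : ∀ p, piA g (piA g⁻¹ p) = p := fun p => by
      rw [← Equiv.Perm.mul_apply, ← map_mul, mul_inv_cancel, map_one, Equiv.Perm.one_apply]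
    simp only [e, add_assoc, add_self4, add_zero]

theorem lift_apply (g : G0) (σ : Pt → Pt → V4) (p q : Pt) (v : V4) :
    lift g σ ((p, q), v) = ((piA g p, piA g q), v + σ p q) := rfl

theorem lift_one : lift 1 (fun _ _ => 0) = 1 := Equiv.ext fun x => by
  obtain ⟨⟨p, q⟩, v⟩ := x
  rw [lift_apply, map_one, add_zero]
  rfl

theorem lift_mul (g h : G0) (σ τ : Pt → Pt → V4) :
    lift g σ * lift h τ = lift (g * h) fun p q => τ p q + σ (piA h p) (piA h q) := Equiv.ext fun x => by
  obtain ⟨⟨p, q⟩, v⟩ := x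
  rw [Equiv.Perm.mul_apply, lift_apply, lift_apply, lift_apply, map_mul, add_assoc]
  rfl

/-- The ambient group. -/
abbrev A0 : Type := Equiv.Perm Xh × G0

/-- The generators upstairs. -/
noncomputable def xs (s : ℕ) : A0 :=
  if s < 4 then (lift (gT s) fun p q => vv (sg s p.1 q.1), gT s) else 1

/-- The cover. -/
noncomputable def cov : Subgroup A0 := Subgroup.closure {x | ∃ s < 4, xs s = x}

theorem ev_xs_mem {w : List ℕ} (h : ∀ s ∈ w, s < 4) : ev xs w ∈ cov :=
  ev_mem w fun s hs => Subgroup.subset_closure ⟨s, h s hs, rfl⟩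

/-- A successor with a weight. -/
def Edge (p q r : Pt) (v : V4) : Prop :=
  ∃ j < 7, ent p.1 q.1 j % 128 = r.1 ∧ vv (ent p.1 q.1 j / 128) = v

/-- Lifts respecting the successors. -/
def Good (a : A0) : Prop :=
  ∃ σ : Pt → Pt → V4, a.1 = lift a.2 σ ∧ (∀ p, σ p p = 0) ∧
    ∀ p q r v, Edge p q r v → Edge (piA a.2 p) (piA a.2 q) (piA a.2 r) (v + σ p q + σ q r)

theorem piA_gT {s : ℕ} (hs : s < 4) (p : Pt) : (piA (gT s) p : ℕ) = actA.im p.1 s := by
  rw [homA.2 s, actA.perm_apply act_inv hs]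

theorem good_xs {s : ℕ} (hs : s < 4) : Good (xs s) := by
  refine ⟨fun p q => vv (sg s p.1 q.1), ?_, fun p => ?_, ?_⟩
  · simp only [xs, if_pos hs]
  · have h := chkDiags p.1 p.2
    simp only [chkDiag, Bool.and_eq_true, List.all_eq_true, List.mem_range] at h
    show vv (sg s p.1 p.1) = 0
    rw [Nat.eq_of_beq_eq_true (h.1 s hs)]
    decide
  · rintro p q r v ⟨j, hj, hr, hv⟩
    have h := List.all_eq_true.1 (chkPairs hs p.2 q.2) j (List.mem_range.2 hj)
    simp only [force_eq, hr, Bool.or_eq_true, Bool.not_eq_true', List.any_eq_true, List.mem_range] at h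
    rcases h with h | ⟨j', hj', he⟩
    · exact absurd (h.symm.trans (show Nat.blt r.1 65 = true from Nat.ble_eq_true_of_le (Nat.succ_le_of_lt r.2)))
        Bool.false_ne_true
    have he' := Nat.eq_of_beq_eq_true he
    have hsg : ∀ a b, sg s a b < 4 := fun a b => Nat.mod_lt _ (by norm_num)
    have hd : ent p.1 q.1 j / 128 < 4 := Nat.div_lt_iff_lt_mul (by norm_num) |>.2 (Nat.mod_lt _ (by norm_num))
    obtain ⟨e1, l1⟩ := vv_xor _ hd _ (hsg p.1 q.1)
    obtain ⟨e2, l2⟩ := vv_xor _ l1 _ (hsg q.1 r.1)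
    have him : actA.im r.1 s < 65 := piA_gT hs r ▸ (piA (gT s) r).2
    show Edge (piA (xs s).2 p) (piA (xs s).2 q) (piA (xs s).2 r) _
    rw [show (xs s).2 = gT s by simp only [xs, if_pos hs]]
    refine ⟨j', hj', ?_, ?_⟩
    · rw [piA_gT hs, piA_gT hs, piA_gT hs, he']
      omega
    · rw [piA_gT hs, piA_gT hs, he', ← hv, ← e1, ← e2]
      congr 1
      omega

theorem good_of_mem {a : A0} (ha : a ∈ cov) : Good a := by
  have hm : a ∈ Submonoid.closure {x | ∃ s < 4, xs s = x} := by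
    rw [← Subgroup.closure_toSubmonoid_of_finite]; exact ha
  induction hm using Submonoid.closure_induction with
  | mem a h => obtain ⟨s, hs, rfl⟩ := h; exact good_xs hs
  | one =>
    refine ⟨fun _ _ => 0, lift_one.symm, fun _ => rfl, fun p q r v h => ?_⟩
    simpa using h
  | mul a b hma hmb iha ihb =>
    have fa : a ∈ cov := by
      rw [cov, ← Subgroup.mem_toSubmonoid, Subgroup.closure_toSubmonoid_of_finite]; exact hma
    have fb : b ∈ cov := by
      rw [cov, ← Subgroup.mem_toSubmonoid, Subgroup.closure_toSubmonoid_of_finite]; exact hmb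
    obtain ⟨σ, h1, h2, h3⟩ := iha fa
    obtain ⟨τ, k1, k2, k3⟩ := ihb fb
    refine ⟨fun p q => τ p q + σ (piA b.2 p) (piA b.2 q), ?_, fun p => ?_, fun p q r v h => ?_⟩
    · rw [Prod.fst_mul, h1, k1, lift_mul, Prod.snd_mul]
    · simp only [k2, h2, add_zero]
    · have e := h3 _ _ _ _ (k3 p q r v h)
      rw [Prod.snd_mul]
      simp only [map_mul, Equiv.Perm.mul_apply]
      refine (congrArg _ ?_).mp e
      abel

theorem edge_unique {p q r : Pt} {v w : V4} (hv : Edge p q r v) (hw : Edge p q r w) : v = w := by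
  obtain ⟨j, hj, hr, rfl⟩ := hv
  obtain ⟨k, hk, hr', rfl⟩ := hw
  by_cases hpq : p = q
  · subst hpq
    have h := chkDiags p.1 p.2
    simp only [chkDiag, Bool.and_eq_true, List.all_eq_true, List.mem_range] at h
    have := Nat.eq_of_beq_eq_true (h.2 j hj)
    have := r.2
    have hN : actA.N = 65 := rfl
    omega
  have h := List.all_eq_true.1 (chkDistincts p.1 p.2) q.1 (List.mem_range.2 q.2)
  simp only [chkDistinct, Bool.or_eq_true, List.all_eq_true, List.mem_range, Bool.not_eq_true'] at h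
  rcases h with h | h
  · exact absurd (Fin.ext (Nat.eq_of_beq_eq_true h)) hpq
  rcases lt_trichotomy j k with l | l | l
  · have e := h k hk j l; rw [hr, hr', ← Bool.not_eq_true] at e; exact absurd (Nat.beq_refl _) e
  · rw [l]
  · have e := h j hj k l; rw [hr, hr', ← Bool.not_eq_true] at e; exact absurd (Nat.beq_refl _) e

/-- The root pair. -/
def p0 : Pt := ⟨64, by decide⟩

/-- The root pair. -/
def q0 : Pt := ⟨0, by decide⟩

/-- A lift of the identity is constant off the diagonal. -/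
theorem const_of_good {a : A0} (ha : a ∈ cov) (h2 : a.2 = 1) :
    ∃ σ : Pt → Pt → V4, a.1 = lift 1 σ ∧ (∀ p, σ p p = 0) ∧ ∀ p q, p ≠ q → σ p q = σ p0 q0 := by
  obtain ⟨σ, h1, hd, he⟩ := good_of_mem ha
  rw [h2] at h1
  refine ⟨σ, h1, hd, ?_⟩
  have key : ∀ (n : ℕ) (q r : Pt), par4 q.1 r.1 / 128 < n → q ≠ r → σ q r = σ p0 q0 := by
    intro n
    induction n with
    | zero => intro q r h; exact absurd h (Nat.not_lt_zero _)
    | succ n ih =>
      intro q r hn hne
      have h := List.all_eq_true.1 (chkPars q.1 q.2) r.1 (List.mem_range.2 r.2)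
      simp only [chkPar, force_eq, Bool.or_eq_true, Bool.and_eq_true, List.any_eq_true, List.mem_range] at h
      rcases h with (h | h) | ⟨⟨hp, hrk⟩, j, hj, hr⟩
      · exact absurd (Fin.ext (Nat.eq_of_beq_eq_true h)) hne
      · rw [show q = p0 from Fin.ext (Nat.eq_of_beq_eq_true h.1), show r = q0 from Fin.ext (Nat.eq_of_beq_eq_true h.2)]
      · let p : Pt := ⟨par4 q.1 r.1 % 128, Nat.le_of_ble_eq_true hp⟩
        have E : Edge p q r (vv (ent p.1 q.1 j / 128)) := ⟨j, hj, Nat.eq_of_beq_eq_true hr, rfl⟩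
        have E' := he p q r _ E
        rw [h2, map_one] at E'
        simp only [Equiv.Perm.one_apply] at E'
        have e := edge_unique E E'
        have hpq : p ≠ q := by
          intro hpq
          have hdg := chkDiags q.1 q.2
          simp only [chkDiag, Bool.and_eq_true, List.all_eq_true, List.mem_range] at hdg
          have e1 := Nat.eq_of_beq_eq_true (hdg.2 j hj)
          have e2 := Nat.eq_of_beq_eq_true hr
          have e3 : (p : ℕ) = q := congrArg Fin.val hpq
          simp only [p] at e3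
          rw [e3] at e2
          have := r.2
          have hN : actA.N = 65 := rfl
          omega
        have hp' : σ p q = σ p0 q0 := ih p q (lt_of_lt_of_le (Nat.le_of_ble_eq_true hrk) (Nat.lt_succ_iff.1 hn)) hpq
        rw [add_assoc, left_eq_add] at e
        rw [← hp']
        exact (eq_of_sub_eq_zero (by rw [sub_eq_add_neg, neg_eq_of_add_eq_zero_left (add_self4 _), e])).symm
  exact fun p q hpq => key _ p q (Nat.lt_succ_self _) hpq

/-- The projection. -/
noncomputable def proj : cov →* G0 := (MonoidHom.snd (Equiv.Perm Xh) G0).comp cov.subtype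

theorem proj_surjective : Function.Surjective proj := by
  rw [← MonoidHom.range_eq_top, eq_top_iff, ← gen, Subgroup.closure_le]
  rintro g ⟨s, hs, rfl⟩
  exact ⟨⟨xs s, Subgroup.subset_closure ⟨s, hs, rfl⟩⟩, by
    show (xs s).2 = gT s
    simp only [xs, if_pos hs]⟩

/-- The sheet shift of a kernel element. -/
noncomputable def phi : proj.ker →* Multiplicative V4 where
  toFun z := Multiplicative.ofAdd ((z.1.1.1 ((p0, q0), 0)).2)
  map_one' := rfl
  map_mul' a b := by
    obtain ⟨σ, h1, -, -⟩ := const_of_good a.1.2 a.2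
    obtain ⟨τ, k1, -, -⟩ := const_of_good b.1.2 b.2
    rw [← ofAdd_add]
    refine congrArg _ ?_
    show ((a.1.1.1 * b.1.1.1) ((p0, q0), 0)).2 = _
    rw [h1, k1, lift_mul]
    simp only [lift_apply, map_one, Equiv.Perm.one_apply]
    abel

theorem phi_injective : Function.Injective phi := by
  rw [← MonoidHom.ker_eq_bot_iff, eq_bot_iff]
  intro z hz
  obtain ⟨σ, h1, hd, hc⟩ := const_of_good z.1.2 z.2
  have h0 : (z.1.1.1 ((p0, q0), 0)).2 = 0 := congrArg Multiplicative.toAdd (MonoidHom.mem_ker.1 hz)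
  rw [h1, lift_apply, zero_add] at h0
  have hσ : σ = fun _ _ => 0 := by
    funext p q
    by_cases h : p = q
    · subst h; exact hd p
    · rw [hc p q h]; exact h0
  refine Subgroup.mem_bot.2 (Subtype.ext (Subtype.ext (Prod.ext ?_ z.2)))
  rw [h1, hσ, lift_one]
  rfl

theorem trk_spec : ∀ w : List ℕ, (∀ s ∈ w, s < 4) → ∀ p q : Pt,
    ((((ev xs w).1 ((p, q), 0)).1.1 : ℕ) = (trk (p.1, q.1) w).1 ∧
      (((ev xs w).1 ((p, q), 0)).1.2 : ℕ) = (trk (p.1, q.1) w).2.1 ∧
      ((ev xs w).1 ((p, q), 0)).2 = vv (trk (p.1, q.1) w).2.2 ∧ (trk (p.1, q.1) w).2.2 < 4)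
  | [], _, p, q => ⟨rfl, rfl, (show (0 : V4) = vv 0 by decide), Nat.succ_pos 3⟩
  | s :: w, h, p, q => by
    obtain ⟨e1, e2, e3, e4⟩ := trk_spec w (fun t ht => h t (List.mem_cons_of_mem _ ht)) p q
    have hs := h s (List.mem_cons_self ..)
    set y := (ev xs w).1 ((p, q), 0) with hy
    have e : (ev xs (s :: w)).1 ((p, q), 0) =
        ((piA (gT s) y.1.1, piA (gT s) y.1.2), y.2 + vv (sg s y.1.1.1 y.1.2.1)) := by
      show ((xs s).1 * (ev xs w).1) _ = _
      rw [Equiv.Perm.mul_apply, ← hy]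
      simp only [xs, if_pos hs]
      rfl
    obtain ⟨ex, el⟩ := vv_xor _ e4 (sg s (trk (p.1, q.1) w).1 (trk (p.1, q.1) w).2.1) (Nat.mod_lt _ (by norm_num))
    rw [e]
    refine ⟨?_, ?_, ?_, el⟩
    · show ((piA (gT s) y.1.1 : Pt) : ℕ) = _
      rw [piA_gT hs, e1]; rfl
    · show ((piA (gT s) y.1.2 : Pt) : ℕ) = _
      rw [piA_gT hs, e2]; rfl
    · show y.2 + vv (sg s y.1.1.1 y.1.2.1) = _
      rw [e1, e2, e3, ← ex]; rfl

/-- Two words with commuting values whose lifts differ by a given sheet. -/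
noncomputable def chkComm (u w : List ℕ) (d : ℕ) : Bool :=
  u.all (fun s => Nat.blt s 4) && w.all (fun s => Nat.blt s 4) &&
    ([64, 0, 8].all fun b => Nat.beq (actA.go (u ++ w) b) (actA.go (w ++ u) b)) &&
    !Nat.beq (trk (64, 0) (w ++ u)).1 (trk (64, 0) (w ++ u)).2.1 &&
    Nat.beq (Nat.xor (trk (64, 0) (u ++ w)).2.2 (trk (64, 0) (w ++ u)).2.2) d

theorem exists_shift {u w : List ℕ} {d : ℕ} (h : chkComm u w d = true) :
    ∃ z : proj.ker, (z : cov) ∈ commutator cov ∧ phi z = Multiplicative.ofAdd (vv d) := by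
  simp only [chkComm, Bool.and_eq_true, List.all_eq_true, Bool.not_eq_true'] at h
  obtain ⟨⟨⟨⟨hu, hw⟩, hb⟩, hne⟩, hd⟩ := h
  have hu' : ∀ s ∈ u, s < 4 := fun s hs => Nat.le_of_ble_eq_true (hu s hs)
  have hw' : ∀ s ∈ w, s < 4 := fun s hs => Nat.le_of_ble_eq_true (hw s hs)
  let U : cov := ⟨ev xs u, ev_xs_mem hu'⟩
  let W : cov := ⟨ev xs w, ev_xs_mem hw'⟩
  have huw : ∀ s ∈ u ++ w, s < 4 := fun s hs => (List.mem_append.1 hs).elim (hu' s) (hw' s)
  have hwu : ∀ s ∈ w ++ u, s < 4 := fun s hs => (List.mem_append.1 hs).elim (hw' s) (hu' s)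
  have hsnd : ∀ v : List ℕ, (∀ s ∈ v, s < 4) → (ev xs v).2 = ev gT v := by
    intro v
    induction v with
    | nil => intro _; rfl
    | cons s v ih =>
      intro hv
      show (xs s).2 * (ev xs v).2 = gT s * ev gT v
      rw [ih fun t ht => hv t (List.mem_cons_of_mem _ ht)]
      simp only [xs, if_pos (hv s (List.mem_cons_self ..))]
  have hcomm : ev gT (u ++ w) = ev gT (w ++ u) := by
    refine (inv_mul_eq_one.1 (det ((ev gT (u ++ w))⁻¹ * ev gT (w ++ u)) fun q hq => ?_))
    have e : piA (ev gT (w ++ u)) q = piA (ev gT (u ++ w)) q := Fin.ext (by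
      rw [homA.apply_ev _ huw, homA.apply_ev _ hwu]
      exact (Nat.eq_of_beq_eq_true (hb q.1 hq)).symm)
    rw [map_mul, map_inv, Equiv.Perm.mul_apply, e, Equiv.Perm.inv_def, Equiv.symm_apply_apply]
  have hz : ⁅U, W⁆ ∈ proj.ker := by
    rw [MonoidHom.mem_ker, map_commutatorElement, commutatorElement_eq_one_iff_mul_comm]
    show (ev xs u).2 * (ev xs w).2 = (ev xs w).2 * (ev xs u).2
    rw [hsnd u hu', hsnd w hw', ← ev_append, ← ev_append, hcomm]
  refine ⟨⟨_, hz⟩, Subgroup.commutator_mem_commutator (Subgroup.mem_top _) (Subgroup.mem_top _), ?_⟩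
  obtain ⟨σ, h1, -, hc⟩ := const_of_good (a := (⁅U, W⁆ : cov).1) (⁅U, W⁆ : cov).2 hz
  refine congrArg Multiplicative.ofAdd ?_
  show ((⁅U, W⁆ : cov).1.1 ((p0, q0), 0)).2 = vv d
  rw [h1, lift_apply, zero_add]
  -- compare the two products at the root
  set y := (ev xs (w ++ u)).1 ((p0, q0), 0) with hy
  have hmul : (⁅U, W⁆ : cov).1.1 * (ev xs (w ++ u)).1 = (ev xs (u ++ w)).1 := by
    show ((⁅ev xs u, ev xs w⁆ : A0) * ev xs (w ++ u)).1 = _
    rw [ev_append, ev_append, commutatorElement_def]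
    congr 1
    group
  have e := congrArg (fun P : Equiv.Perm Xh => (P ((p0, q0), 0)).2) hmul
  simp only [Equiv.Perm.mul_apply, h1, ← hy] at e
  rw [show y = ((y.1.1, y.1.2), y.2) from rfl, lift_apply] at e
  obtain ⟨a1, a2, a3, a4⟩ := trk_spec _ hwu p0 q0
  obtain ⟨b1, b2, b3, b4⟩ := trk_spec _ huw p0 q0
  have hyne : y.1.1 ≠ y.1.2 := fun he => by
    rw [← hy] at a1 a2
    rw [he, a2] at a1
    change Nat.beq (trk (p0.1, q0.1) (w ++ u)).1 (trk (p0.1, q0.1) (w ++ u)).2.1 = false at hne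
    rw [← a1, ← Bool.not_eq_true] at hne
    exact hne (Nat.beq_refl _)
  rw [hc _ _ hyne] at e
  rw [← hy] at a3
  rw [b3, a3] at e
  change (trk (64, 0) (u ++ w)).2.2 < 4 at b4
  change (trk (64, 0) (w ++ u)).2.2 < 4 at a4
  change vv (trk (64, 0) (w ++ u)).2.2 + σ p0 q0 = vv (trk (64, 0) (u ++ w)).2.2 at e
  show σ p0 q0 = _
  rw [← Nat.eq_of_beq_eq_true hd, (vv_xor _ b4 _ a4).1]
  rw [← e, add_comm (vv _) (σ p0 q0), add_assoc, add_self4, add_zero]

instance finite_cov : Finite cov := inferInstanceAs (Finite (Subtype _))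

end Cfsg.Agent.Lie.SzEight
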