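import Cfsg.Agent.Lib.Grp.SchurM.TailTable
import Cfsg.Agent.Lib.Lie.Sz.Eight.Two

/-! A Sylow 13-subgroup of the Suzuki group with equations for the tails. -/

set_option autoImplicit false
set_option maxRecDepth 100000
set_option maxHeartbeats 8000000

open Cfsg.Agent.Grp.SchurM.Tails

namespace Cfsg.Agent.Lie.SzEight

/-- Presentation of the Sylow 13-subgroup. -/
def pc13 : PC where
  p := 13
  n := 1
  rhs := [[]]
  defs := []

/-- Elements of the Sylow 13-subgroup. -/
def els13 : List (List ℕ) :=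
   [[0],
    [],
    [0, 0, 0, 0, 0, 0, 0, 0],
    [0, 0, 0, 0, 0, 0, 0, 0, 0, 0, 0],
    [0, 0, 0, 0, 0, 0, 0],
    [0, 0, 0, 0, 0, 0, 0, 0, 0, 0, 0, 0],
    [0, 0, 0],
    [0, 0, 0, 0, 0, 0],
    [0, 0, 0, 0, 0, 0, 0, 0, 0],
    [0, 0, 0, 0],
    [0, 0, 0, 0, 0],
    [0, 0],
    [0, 0, 0, 0, 0, 0, 0, 0, 0, 0]]

/-- Conjugation data. -/
def conj13 : List Conj :=
   [(0, [0], [0, 0, 0, 0, 0, 0, 0, 0, 0, 0, 0, 0])]

/-- Equations between tails. -/
def cert13 : Cert where
  eqns := [.fus [0] [0, 0, 0, 0, 0, 0, 0, 0, 0, 0, 0, 0, 0] []]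
  free := 1
  combo := [[0, 0, 0, 0, 0, 0, 0]]

/-- The certificate. -/
def tab13 : TableCert where
  P := pc13
  ews := [[0, 2, 1]]
  gws := [[0]]
  C := conj13
  K := cert13
  els := els13

theorem tab13_rel : tab13.chkRel actA [64, 0, 8] = true := by decide +kernel

theorem tab13_card : tab13.chkCard actA [64, 0, 8] = true := by decide +kernel

theorem tab13_tails : tab13.K.check tab13.P tab13.C = true := by decide +kernel

theorem sylow13 : Nonempty (SylowCert G0 13) :=
  TableCert.sylowCert homA (by decide +kernel) det card_G0 rfl (by decide) tab13_rel tab13_card tab13_tails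
    (le_of_eq rfl) (by decide +kernel)

end Cfsg.Agent.Lie.SzEight
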