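import Cfsg.Agent.Lib.Lie.Sz.Eight.Tail2
import Cfsg.Agent.Lib.Lie.Sz.Eight.Tail5
import Cfsg.Agent.Lib.Lie.Sz.Eight.Tail7
import Cfsg.Agent.Lib.Lie.Sz.Eight.Tail13
import Cfsg.Agent.Lib.Lie.Sz.Eight.Cover
import Cfsg.Agent.Lib.Lie.Sz.LieEquiv
import Cfsg.Agent.Lib.Lie.Sz.FieldMap
import Cfsg.Agent.Lib.Grp.SchurM.SylowBounds

/-! The multiplier of the smallest Suzuki group is a four-group. -/

set_option autoImplicit false
set_option linter.style.haveILetI false

open Cfsg Cfsg.Agent.Suz Cfsg.Agent.Grp.SchurM.Tails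
open Cfsg.Agent.Fus (F8)

namespace Cfsg.Agent.Lie.SzEight

universe u

/-- The four-group, written multiplicatively. -/
abbrev K4 : Type := Multiplicative V4

theorem exists_hom {Δ : Type u} [Group Δ] [Finite Δ] (σ : Δ →* G0) (hσ : Cfsg.IsStemExtension σ) :
    ∃ π : K4 →* σ.ker, Function.Surjective π := by
  obtain ⟨S⟩ := sylow2
  obtain ⟨c, hc, d, hd, hcp, hdp, hle⟩ := exists_gens_of_pair Nat.prime_two S (fun q hq hne hdv => by
    rw [card_G0, show 29120 = 2 ^ 6 * 5 * 7 * 13 by norm_num] at hdv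
    have key : ∀ r : ℕ, r.Prime → q ∣ r → q = r := fun r hr h => (Nat.prime_dvd_prime_iff_eq hq hr).1 h
    rcases (Nat.Prime.dvd_mul hq).1 hdv with hdv | h13
    · rcases (Nat.Prime.dvd_mul hq).1 hdv with hdv | h7
      · rcases (Nat.Prime.dvd_mul hq).1 hdv with h2 | h5
        · exact absurd (key 2 Nat.prime_two (hq.dvd_of_dvd_pow h2)) hne
        · obtain rfl := key 5 (by norm_num) h5
          exact sylow5
      · obtain rfl := key 7 (by norm_num) h7
        exact sylow7
    · obtain rfl := key 13 (by norm_num) h13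
      exact sylow13) σ hσ
  obtain ⟨f, hf⟩ := Cfsg.Agent.Grp.SchurM.exists_surjective_zmod (Subgroup.zpowers c) c
    (Subgroup.mem_zpowers c) hcp le_rfl
  obtain ⟨f', hf'⟩ := Cfsg.Agent.Grp.SchurM.exists_surjective_zmod (Subgroup.zpowers d) d
    (Subgroup.mem_zpowers d) hdp le_rfl
  let g : Multiplicative (ZMod 2) →* Δ := (Subgroup.zpowers c).subtype.comp f
  let g' : Multiplicative (ZMod 2) →* Δ := (Subgroup.zpowers d).subtype.comp f'
  have hgk : ∀ a, g a ∈ σ.ker := fun a => Subgroup.zpowers_le.2 hc (f a).2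
  have hgk' : ∀ a, g' a ∈ σ.ker := fun a => Subgroup.zpowers_le.2 hd (f' a).2
  have hcom : ∀ a b, Commute (g a) (g' b) := fun a b => (Subgroup.mem_center_iff.1 (hσ.2.1 (hgk' b)) (g a))
  let F : Multiplicative (ZMod 2) × Multiplicative (ZMod 2) →* Δ := g.noncommCoprod g' hcom
  let T : K4 →* Multiplicative (ZMod 2) × Multiplicative (ZMod 2) := (MulEquiv.prodMultiplicative _ _).toMonoidHom
  refine ⟨(F.comp T).codRestrict σ.ker fun x => ?_, ?_⟩
  · exact mul_mem (hgk _) (hgk' _)
  · have hT : Function.Surjective T := (MulEquiv.prodMultiplicative _ _).surjective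
    have hrange : σ.ker ≤ F.range := by
      refine hle.trans (sup_le ?_ ?_) <;> intro x hx
      · obtain ⟨a, ha⟩ := hf ⟨x, hx⟩
        exact ⟨(a, 1), by simp [F, g, ha]⟩
      · obtain ⟨a, ha⟩ := hf' ⟨x, hx⟩
        exact ⟨(1, a), by simp [F, g', ha]⟩
    rintro ⟨x, hx⟩
    obtain ⟨y, rfl⟩ := hrange hx
    obtain ⟨z, rfl⟩ := hT y
    exact ⟨z, rfl⟩

theorem phi_surjective : Function.Surjective phi ∧ proj.ker ≤ commutator cov := by
  obtain ⟨a, ha, ea⟩ := exists_shift (u := tab2.ews.getD 0 []) (w := tab2.ews.getD 5 []) (d := 1) (by decide +kernel)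
  obtain ⟨b, hb, eb⟩ := exists_shift (u := tab2.ews.getD 1 []) (w := tab2.ews.getD 5 []) (d := 2) (by decide +kernel)
  have cases4 : ∀ v : V4, v = 0 ∨ v = vv 1 ∨ v = vv 2 ∨ v = vv 1 + vv 2 := by decide
  have key : ∀ x : K4, ∃ z : proj.ker, (z : cov) ∈ commutator cov ∧ phi z = x := by
    intro x
    rcases cases4 (Multiplicative.toAdd x) with h | h | h | h
    · exact ⟨1, one_mem _, by rw [map_one]; exact congrArg Multiplicative.ofAdd h.symm⟩
    · exact ⟨a, ha, by rw [ea]; exact congrArg Multiplicative.ofAdd h.symm⟩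
    · exact ⟨b, hb, by rw [eb]; exact congrArg Multiplicative.ofAdd h.symm⟩
    · exact ⟨a * b, mul_mem ha hb, by rw [map_mul, ea, eb, ← ofAdd_add]; exact congrArg Multiplicative.ofAdd h.symm⟩
  refine ⟨fun x => let ⟨z, _, e⟩ := key x; ⟨z, e⟩, fun z hz => ?_⟩
  obtain ⟨w, hw, e⟩ := key (phi ⟨z, hz⟩)
  have he : (w : cov) = z := congrArg Subtype.val (phi_injective e)
  rwa [he] at hw

theorem stem : Cfsg.IsStemExtension proj := by
  refine ⟨proj_surjective, fun z hz => ?_, phi_surjective.2⟩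
  refine Subgroup.mem_center_iff.2 fun v => Subtype.ext (Prod.ext ?_ ?_)
  · show v.1.1 * z.1.1 = z.1.1 * v.1.1
    obtain ⟨σ, h1, hd, hc⟩ := const_of_good z.2 hz
    obtain ⟨τ, k1, k2, -⟩ := good_of_mem v.2
    rw [h1, k1, lift_mul, lift_mul, mul_one, one_mul]
    congr 1
    funext p q
    simp only [map_one, Equiv.Perm.one_apply]
    by_cases h : p = q
    · subst h; simp only [hd, k2, add_zero]
    · rw [hc p q h, hc _ _ fun e => h ((piA v.1.2).injective e), add_comm]
  · show v.1.2 * z.1.2 = z.1.2 * v.1.2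
    rw [show z.1.2 = 1 from hz, mul_one, one_mul]

variable {F : Type u} [Field F] [Fintype F]

theorem exists_mulEquiv (hF : Fintype.card F = 8) : Nonempty (G0 ≃* ↥(Cfsg.Lie.Sz F 4)) := by
  have hSF : SzField F 1 := ⟨le_rfl, hF⟩
  let ι : F8 ≃+* F := FiniteField.ringEquivOfCardEq (F8.card_eq.trans hF.symm)
  have hι : ∀ x, ι.toRingHom (th 1 x) = th 1 (ι.toRingHom x) := fun x => map_pow ι.toRingHom _ _
  let f : G0 →* ↥(Cfsg.Sz F 1) := fieldHom hSF hS ι.toRingHom hι
  have hfin : Finite ↥(Cfsg.Sz F 1) := Nat.finite_of_card_ne_zero (by rw [card_Sz hSF]; norm_num)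
  have hb : Function.Bijective f :=
    (Nat.bijective_iff_injective_and_card f).2
      ⟨fieldHom_injective hSF hS ι.toRingHom hι, by rw [card_Sz hSF, card_Sz hS]⟩
  exact ⟨(MulEquiv.ofBijective f hb).trans (szEquiv hSF)⟩

theorem multiplier (hF : Fintype.card F = 8) :
    Cfsg.HasSchurMultiplier ↥(Cfsg.Lie.Sz F 4) (Multiplicative (ZMod 2 × ZMod 2)) := by
  obtain ⟨e⟩ := exists_mulEquiv hF
  refine ⟨?_, fun Δ _ _ σ hσ => ?_⟩
  · let U := ULift.{u} cov
    let up : U ≃* cov := MulEquiv.ulift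
    let p : U →* ↥(Cfsg.Lie.Sz F 4) := e.toMonoidHom.comp (proj.comp up.toMonoidHom)
    have hker : p.ker = proj.ker.comap up.toMonoidHom := by
      ext x
      simp only [p, Subgroup.mem_comap, MonoidHom.mem_ker, MonoidHom.comp_apply, MulEquiv.coe_toMonoidHom,
        map_eq_one_iff e e.injective]
    refine ⟨U, inferInstance, inferInstance, p, ⟨?_, ?_, ?_⟩, ?_⟩
    · exact e.surjective.comp (proj_surjective.comp up.surjective)
    · intro x hx
      rw [hker, Subgroup.mem_comap] at hx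
      refine Subgroup.mem_center_iff.2 fun v => up.injective ?_
      rw [map_mul, map_mul]
      exact Subgroup.mem_center_iff.1 (stem.2.1 hx) _
    · intro x hx
      rw [hker, Subgroup.mem_comap] at hx
      have h := Subgroup.mem_map_of_mem up.symm.toMonoidHom (stem.2.2 hx)
      rw [commutator_def, Subgroup.map_commutator] at h
      exact Subgroup.commutator_mono le_top le_top (by simpa using h)
    · rw [hker]
      exact ⟨(MulEquiv.mk
        { toFun := fun x => ⟨up x.1, x.2⟩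
          invFun := fun y => ⟨up.symm y.1, by
            rw [Subgroup.mem_comap]; show up (up.symm y.1) ∈ proj.ker; rw [up.apply_symm_apply]; exact y.2⟩
          left_inv := fun x => Subtype.ext (up.symm_apply_apply _)
          right_inv := fun y => Subtype.ext (up.apply_symm_apply _) }
        (fun x y => Subtype.ext (map_mul up _ _))).trans
          (MulEquiv.ofBijective phi ⟨phi_injective, phi_surjective.1⟩)⟩
  · let r : ↥(Cfsg.Lie.Sz F 4) ≃* G0 := e.symm
    have hker : (r.toMonoidHom.comp σ).ker = σ.ker := MonoidHom.ker_mulEquiv_comp σ r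
    obtain ⟨π, hπ⟩ := exists_hom (r.toMonoidHom.comp σ)
      ⟨r.surjective.comp hσ.1, hker.le.trans hσ.2.1, hker.le.trans hσ.2.2⟩
    exact ⟨(MulEquiv.subgroupCongr hker).toMonoidHom.comp π, (MulEquiv.subgroupCongr hker).surjective.comp hπ⟩

end Cfsg.Agent.Lie.SzEight
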