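import Cfsg.Agent.Lib.Grp.SchurM.TailPair
import Cfsg.Agent.Lib.Lie.Sz.Eight.Two

/-! A Sylow 2-subgroup of the Suzuki group with equations for the tails. -/

set_option autoImplicit false
set_option maxRecDepth 100000
set_option maxHeartbeats 8000000

open Cfsg.Agent.Grp.SchurM.Tails

namespace Cfsg.Agent.Lie.SzEight

/-- Presentation of the Sylow 2-subgroup. -/
def pc2 : PC where
  p := 2
  n := 6
  rhs := [[3],
    [0, 1, 4, 5],
    [4],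
    [0, 2, 3, 4],
    [1, 2, 3],
    [5],
    [0, 3],
    [1, 3],
    [2, 3],
    [],
    [0, 4],
    [1, 4],
    [2, 4],
    [3, 4],
    [],
    [0, 5],
    [1, 5],
    [2, 5],
    [3, 5],
    [4, 5],
    []]
  defs := [(3, 0, 0), (4, 1, 1), (5, 2, 2)]

/-- Elements of the Sylow 2-subgroup. -/
def els2 : List (List ℕ) :=
   [[3],
    [0, 3],
    [1, 3],
    [0, 1, 5],
    [2, 3],
    [0, 2, 3, 4, 5],
    [1, 2, 4, 5],
    [0, 1, 2, 3, 5],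
    [],
    [0],
    [1],
    [0, 1, 3, 5],
    [2],
    [0, 2, 4, 5],
    [1, 2, 3, 4, 5],
    [0, 1, 2, 5],
    [5],
    [0, 5],
    [1, 5],
    [0, 1, 3],
    [2, 5],
    [0, 2, 4],
    [1, 2, 3, 4],
    [0, 1, 2],
    [3, 5],
    [0, 3, 5],
    [1, 3, 5],
    [0, 1],
    [2, 3, 5],
    [0, 2, 3, 4],
    [1, 2, 4],
    [0, 1, 2, 3],
    [3, 4, 5],
    [0, 3, 4, 5],
    [1, 3, 4, 5],
    [0, 1, 4],
    [2, 3, 4, 5],
    [0, 2, 3],
    [1, 2],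
    [0, 1, 2, 3, 4],
    [4, 5],
    [0, 4, 5],
    [1, 4, 5],
    [0, 1, 3, 4],
    [2, 4, 5],
    [0, 2],
    [1, 2, 3],
    [0, 1, 2, 4],
    [4],
    [0, 4],
    [1, 4],
    [0, 1, 3, 4, 5],
    [2, 4],
    [0, 2, 5],
    [1, 2, 3, 5],
    [0, 1, 2, 4, 5],
    [3, 4],
    [0, 3, 4],
    [1, 3, 4],
    [0, 1, 4, 5],
    [2, 3, 4],
    [0, 2, 3, 5],
    [1, 2, 5],
    [0, 1, 2, 3, 4, 5]]

/-- Conjugation data. -/
def conj2 : List Conj :=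
   [(0, [1, 2, 3], [0, 1, 2, 3, 5]),
    (0, [0, 1, 2], [0, 2, 3, 4]),
    (0, [0, 2, 4, 5], [0])]

/-- Equations between tails. -/
def cert2 : Cert where
  eqns := [.cons [2, 1, 0] 0 1,
    .cons [3, 1, 0] 0 1,
    .cons [3, 2, 0] 0 1,
    .cons [4, 1, 0] 0 1,
    .cons [0, 0, 0] 0 1,
    .cons [1, 1, 0] 0 1,
    .cons [1, 0, 0] 0 1,
    .cons [1, 1, 1] 0 1,
    .cons [2, 2, 0] 0 1,
    .cons [2, 0, 0] 0 1,
    .cons [2, 2, 1] 0 1,
    .cons [2, 1, 1] 0 1,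
    .cons [2, 2, 2] 0 1,
    .fus [0, 1, 2] [1, 0, 1] [0, 2, 2],
    .fus [0, 1, 2] [1, 1, 2] [0, 2, 0],
    .fus [0, 1, 2] [0, 0, 1, 2] [2, 1]]
  free := 21
  combo := [[],
    [0, 1, 3, 4, 8, 9, 11, 12, 13],
    [],
    [0, 4, 5, 6, 7, 9, 12, 14],
    [0, 3, 6, 8, 9, 10, 11, 12, 15],
    [],
    [4],
    [5, 6, 7],
    [0, 2, 3, 4, 7, 10, 11, 12],
    [0, 2, 3, 4, 7, 11, 12],
    [0, 2, 3, 5, 6, 8, 9, 12],
    [7],
    [0, 2, 3, 4, 5, 6, 12],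
    [2],
    [0, 3, 4, 5, 6, 8, 10, 12],
    [],
    [],
    [12],
    [1, 2],
    [3],
    [2, 3, 4, 5, 7, 9, 10]]

/-- The certificate. -/
def tab2 : TableCert where
  P := pc2
  ews := [[2, 0, 3, 0, 1, 3, 0, 2, 0, 3, 2, 0, 3, 1, 0],
    [0, 2, 0, 2, 1, 0, 2, 0, 1, 0, 2, 0, 3, 0],
    [3, 0, 3, 0, 3, 2, 0, 3, 1, 0, 2, 0, 2, 0],
    [1],
    [3, 2, 1],
    [2, 1]]
  gws := [[3, 1, 0, 2, 0, 3, 1, 0, 2, 0, 3, 1, 0]]
  C := conj2
  K := cert2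
  els := els2

theorem tab2_rel : tab2.chkRel actA [64, 0, 8] = true := by decide +kernel

theorem tab2_card : tab2.chkCard actA [64, 0, 8] = true := by decide +kernel

theorem tab2_tails : tab2.K.checkPair tab2.P tab2.C (tri 5 0) (tri 5 1) = true := by decide +kernel

theorem sylow2 : Nonempty (SylowPair G0 2) :=
  TableCert.sylowPair homA (by decide +kernel) det card_G0 rfl (by decide) tab2_rel tab2_card
    (j := 5) (i := 0) (j' := 5) (i' := 1) tab2_tails (by decide +kernel) rfl rfl (by decide +kernel)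
    rfl rfl (by decide +kernel)

end Cfsg.Agent.Lie.SzEight
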